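import Mathlib.GroupTheory.Sylow
import Mathlib.GroupTheory.SpecificGroups.Dihedral
import Mathlib.GroupTheory.GroupAction.Quotient
import Mathlib.Data.Fintype.CardEmbedding
import Cfsg.Agent.Lib.GL.Simple

/-!
Small tools for groups with a dihedral involution centralizer of order 8.
-/

set_option autoImplicit false

namespace Cfsg.Agent.DihedralCentTools

open Subgroup

theorem d8_facts : ∀ a : DihedralGroup 4, a * a = 1 → a ≠ 1 → a ≠ .r 2 →
    (∀ b, b * a = a * b → b = 1 ∨ b = .r 2 ∨ b = a ∨ b = .r 2 * a) ∧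
      ∃ c, c * a * c⁻¹ = .r 2 * a := by
  decide

theorem mem_of_card_four {G : Type*} [Group G] [Finite G] {E : Subgroup G} (hE : Nat.card E = 4)
    {z u : G} (hz : z ∈ E) (hu : u ∈ E) (hz1 : z ≠ 1) (hu1 : u ≠ 1) (hzu : u ≠ z) (hzu1 : z * u ≠ 1)
    {b : G} (hb : b ∈ E) : b = 1 ∨ b = z ∨ b = u ∨ b = z * u := by
  classical
  by_contra hcon
  simp only [not_or] at hcon
  obtain ⟨b1, b2, b3, b4⟩ := hcon
  have hsub : ({1, z, u, z * u, b} : Finset G) ⊆ (E : Set G).toFinite.toFinset := by
    intro x hx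
    simp only [Finset.mem_insert, Finset.mem_singleton] at hx
    simp only [Set.Finite.mem_toFinset, SetLike.mem_coe]
    rcases hx with rfl | rfl | rfl | rfl | rfl
    exacts [one_mem E, hz, hu, E.mul_mem hz hu, hb]
  have h5 : ({1, z, u, z * u, b} : Finset G).card = 5 := by
    simp [Finset.card_insert_of_notMem, Ne.symm hz1, Ne.symm hu1, Ne.symm hzu1, Ne.symm b1, Ne.symm b2,
      Ne.symm b3, Ne.symm b4, Ne.symm hzu, hz1, hu1]
  have := Finset.card_le_card hsub
  rw [h5, ← Set.ncard_eq_toFinset_card _ _, ← Nat.card_coe_set_eq] at this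
  exact absurd (this.trans_eq hE) (by omega)

theorem comm_of_exponent_two {G : Type*} [Group G] {E : Subgroup G} (h : ∀ a ∈ E, a * a = 1) :
    ∀ a ∈ E, ∀ b ∈ E, a * b = b * a := fun a ha b hb => by
  rw [← inv_eq_of_mul_eq_one_right (h _ (E.mul_mem ha hb)), mul_inv_rev,
    inv_eq_of_mul_eq_one_right (h a ha), inv_eq_of_mul_eq_one_right (h b hb)]

/-- The conjugation action of `N(E)` on a self-centralizing subgroup of order 4. -/
theorem card_normalizer_dvd {G : Type*} [Group G] [Finite G] {E : Subgroup G} (hE : Nat.card E = 4)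
    (hcent : centralizer (E : Set G) ≤ E) : Nat.card (normalizer (E : Set G)) ∣ 24 := by
  classical
  set N := normalizer (E : Set G)
  let E0 := {a : E // ¬ a = 1}
  let φ : N →* Equiv.Perm E0 :=
    { toFun := fun n =>
        { toFun := fun a => ⟨⟨(n : G) * (a.1 : G) * (n : G)⁻¹, (mem_normalizer_iff.mp n.2 _).mp a.1.2⟩,
            fun h => a.2 (Subtype.ext (conj_eq_one_iff.mp (congrArg Subtype.val h)))⟩
          invFun := fun a => ⟨⟨(n : G)⁻¹ * (a.1 : G) * (n : G), by
            have := (mem_normalizer_iff.mp (inv_mem n.2) _).mp a.1.2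
            rwa [inv_inv] at this⟩, fun h => a.2 (Subtype.ext (by
              have h' : (n : G)⁻¹ * (a.1 : G) * (n : G) = 1 := congrArg Subtype.val h
              calc (a.1 : G) = (n : G) * ((n : G)⁻¹ * (a.1 : G) * (n : G)) * (n : G)⁻¹ := by group
                _ = 1 := by rw [h']; group))⟩
          left_inv := fun a => by ext; simp [mul_assoc]
          right_inv := fun a => by ext; simp [mul_assoc] }
      map_one' := by ext a; simp
      map_mul' := fun n m => by ext a; simp [mul_assoc] }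
  have hker : φ.ker.map N.subtype ≤ E := by
    rintro _ ⟨n, hn, rfl⟩
    refine hcent fun b hb => ?_
    rcases eq_or_ne b 1 with rfl | hb1
    · simp
    have h : (n : G) * b * (n : G)⁻¹ = b := congrArg (fun f : Equiv.Perm E0 =>
      ((f ⟨⟨b, hb⟩, fun h => hb1 (congrArg Subtype.val h)⟩).1 : G)) (show φ n = 1 from hn)
    exact (mul_inv_eq_iff_eq_mul.mp h).symm
  have h3 : Nat.card E0 = 3 := by
    have := Nat.card_congr (Equiv.sumCompl (fun a : E => a = 1))
    rw [Nat.card_sum, hE, Nat.card_unique] at this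
    show Nat.card {a : E // ¬a = 1} = 3
    omega
  rw [Subgroup.card_eq_card_quotient_mul_card_subgroup φ.ker,
    Nat.card_congr (QuotientGroup.quotientKerEquivRange φ).toEquiv]
  have h6 : Nat.card φ.range ∣ 6 := by
    have := Subgroup.card_subgroup_dvd_card φ.range
    rwa [Nat.card_perm, h3] at this
  have h4 : Nat.card φ.ker ∣ 4 := by
    rw [← hE, ← Subgroup.card_map_of_injective N.subtype_injective]
    exact Subgroup.card_dvd_of_le hker
  exact Nat.mul_dvd_mul h6 h4

/-- A group triply transitive on 5 points in which only the identity fixes three points has order 60. -/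
theorem card_eq_sixty {M X : Type*} [Group M] [MulAction M X] [Finite X] (hX : Nat.card X = 5)
    (htrans : ∀ x₁ x₂ x₃ y₁ y₂ y₃ : X, x₁ ≠ x₂ → x₁ ≠ x₃ → x₂ ≠ x₃ → y₁ ≠ y₂ → y₁ ≠ y₃ → y₂ ≠ y₃ →
      ∃ g : M, g • x₁ = y₁ ∧ g • x₂ = y₂ ∧ g • x₃ = y₃)
    (hfix : ∀ (g : M) (x₁ x₂ x₃ : X), x₁ ≠ x₂ → x₁ ≠ x₃ → x₂ ≠ x₃ → g • x₁ = x₁ → g • x₂ = x₂ →
      g • x₃ = x₃ → g = 1) : Nat.card M = 60 := by
  classical
  have := Fintype.ofFinite X
  have hX' : Fintype.card X = 5 := by rw [← Nat.card_eq_fintype_card]; exact hX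
  obtain ⟨x⟩ : Nonempty (Fin 3 ↪ X) := Function.Embedding.nonempty_of_card_le (by rw [Fintype.card_fin, hX']; norm_num)
  have k01 : (0 : Fin 3) ≠ 1 := by decide
  have k02 : (0 : Fin 3) ≠ 2 := by decide
  have k12 : (1 : Fin 3) ≠ 2 := by decide
  let f : M → (Fin 3 ↪ X) := fun m => x.trans (MulAction.toPerm m).toEmbedding
  have hf : Function.Bijective f := by
    refine ⟨fun a b hab => ?_, fun y => ?_⟩
    · have h : ∀ i, (b⁻¹ * a) • x i = x i := fun i => by
        have h1 : a • x i = b • x i := congrArg (fun w : Fin 3 ↪ X => w i) hab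
        rw [mul_smul, h1, inv_smul_smul]
      exact (inv_mul_eq_one.mp (hfix _ _ _ _ (x.injective.ne k01) (x.injective.ne k02) (x.injective.ne k12)
        (h 0) (h 1) (h 2))).symm
    · obtain ⟨m, m1, m2, m3⟩ := htrans (x 0) (x 1) (x 2) (y 0) (y 1) (y 2) (x.injective.ne k01)
        (x.injective.ne k02) (x.injective.ne k12) (y.injective.ne k01) (y.injective.ne k02) (y.injective.ne k12)
      refine ⟨m, Function.Embedding.ext fun i => ?_⟩
      fin_cases i
      exacts [m1, m2, m3]
  rw [Nat.card_congr (Equiv.ofBijective f hf), Nat.card_eq_fintype_card, Fintype.card_embedding_eq, hX',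
    Fintype.card_fin]
  rfl

/-- An injective map onto the symmetric group of the right order. -/
theorem nonempty_mulEquiv_perm {G : Type*} [Group G] [Finite G] (H : Subgroup G) {n : ℕ} (hH : H.index = n)
    (hG : Nat.card G = n.factorial) (hcore : H.normalCore = ⊥) : Nonempty (G ≃* Equiv.Perm (Fin n)) := by
  classical
  let ψ : G →* Equiv.Perm (G ⧸ H) := MulAction.toPermHom G (G ⧸ H)
  have hinj : Function.Injective ψ := by
    rw [← MonoidHom.ker_eq_bot_iff, ← hcore]
    exact (Subgroup.normalCore_eq_ker H).symm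
  have hX : Nat.card (G ⧸ H) = n := hH
  have hbij : Function.Bijective ψ :=
    (Nat.bijective_iff_injective_and_card ψ).mpr ⟨hinj, by rw [hG, Nat.card_perm, hX]⟩
  exact ⟨(MulEquiv.ofBijective ψ hbij).trans (Finite.equivFinOfCardEq hX).permCongrHom⟩

theorem sl32 : IsSimpleGroup (Matrix.SpecialLinearGroup (Fin 3) (ZMod 2)) ∧
    Nat.card (Matrix.SpecialLinearGroup (Fin 3) (ZMod 2)) = 168 := by
  have := Fact.mk Nat.prime_two
  have hc : Subgroup.center (Matrix.SpecialLinearGroup (Fin 3) (ZMod 2)) = ⊥ := by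
    refine Subgroup.eq_bot_of_card_eq _ ?_
    rw [GL.card_center_SL, ZMod.card, Fintype.card_fin]; rfl
  refine ⟨?_, ?_⟩
  · have hs := GL.PSL_isSimpleGroup (F := ZMod 2) 3 (by norm_num) (fun h => absurd h (by norm_num))
    have e : Matrix.ProjectiveSpecialLinearGroup (Fin 3) (ZMod 2) ≃* Matrix.SpecialLinearGroup (Fin 3) (ZMod 2) :=
      (QuotientGroup.quotientMulEquivOfEq hc).trans QuotientGroup.quotientBot
    exact e.symm.isSimpleGroup
  · rw [GL.card_SL_prod 3, ZMod.card, show Finset.Ico 2 (3 + 1) = {2, 3} from rfl,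
      Finset.prod_pair (by norm_num : (2 : ℕ) ≠ 3)]
    norm_num

end Cfsg.Agent.DihedralCentTools
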