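import Cfsg.Agent.Lib.DihedralCent.Klein
import Cfsg.Agent.Lib.Involution.ElemCentralizerTriple

/-!
Dihedral involution centralizer of order 8, not isolated, with a normal subgroup of index 2: `S₄` or `S₅`.
-/

set_option autoImplicit false

namespace Cfsg.Agent.DihedralCentTools

open Subgroup

variable {G : Type*} [Group G] [Finite G] (D : BSW.DihedralCent G)

theorem central_trivial (hg : ∃ g : G, g * D.t * g⁻¹ ≠ D.t) {v : G} (hv : ∀ h : G, h * v = v * h)
    (hv2 : v * v = 1) : v = 1 := by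
  by_contra hv1
  have hvC : v ∈ D.C := mem_centralizer_singleton_iff.mpr (hv D.t).symm
  have h := D.central_eq_t hvC hv1 fun a _ => hv a
  rw [D.el_r_two] at h
  obtain ⟨g, hg⟩ := hg
  exact hg (by rw [← h, hv g, mul_inv_cancel_right])

theorem four_case {E : Subgroup G} [hEn : E.Normal] (hE : Nat.card E = 4)
    (hcent : centralizer (E : Set G) ≤ E) (hz : D.t ∈ E)
    (hconj : ∀ a ∈ E, a ≠ 1 → ∃ h : G, h * D.t * h⁻¹ = a) (hG : Nat.card G = 24) :
    Nonempty (G ≃* Equiv.Perm (Fin 4)) := by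
  have := Fact.mk Nat.prime_three
  obtain ⟨R⟩ := (inferInstance : Nonempty (Sylow 3 G))
  have hR : Nat.card (R : Subgroup G) = 3 := by
    obtain ⟨k, hk⟩ := R.2.exists_card_eq
    have h1 : 3 ∣ Nat.card (R : Subgroup G) := R.dvd_card_of_dvd_card (by rw [hG]; norm_num)
    have h2 := Subgroup.card_subgroup_dvd_card (R : Subgroup G)
    rw [hk] at h1 h2 ⊢
    rw [hG] at h2
    rcases k with _ | _ | k
    · norm_num at h1
    · rfl
    · exact absurd ((pow_dvd_pow 3 (Nat.le_add_left 2 k)).trans h2) (by norm_num)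
  have hidx : (R : Subgroup G).index = 8 := by
    have h := Subgroup.card_mul_index (R : Subgroup G)
    rw [hR, hG] at h
    omega
  have hdvd : Nat.card (Sylow 3 G) ∣ 8 := hidx ▸ R.card_dvd_index
  have hne1 : Nat.card (Sylow 3 G) ≠ 1 := by
    intro h1
    have : Subsingleton (Sylow 3 G) := (Nat.card_eq_one_iff_unique.mp h1).1
    have hRn : (R : Subgroup G).Normal := Sylow.normal_of_subsingleton R
    have hdis : Disjoint (R : Subgroup G) E := disjoint_of_coprime_natCard (by rw [hR, hE]; norm_num)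
    have hRE : (R : Subgroup G) ≤ E := fun x hx => hcent fun b hb =>
      (Subgroup.commute_of_normal_of_disjoint _ _ hRn hEn hdis x b hx hb).symm
    have := Subgroup.card_dvd_of_le hRE
    rw [hR, hE] at this
    omega
  have hn4 : Nat.card (Sylow 3 G) = 4 := by
    have hmod : Nat.card (Sylow 3 G) % 3 = 1 := card_sylow_modEq_one 3 G
    have hle := Nat.le_of_dvd (by norm_num) hdvd
    interval_cases hn : Nat.card (Sylow 3 G) <;> omega
  set H := normalizer (R : Set G) with hH
  have hH4 : H.index = 4 := by rw [hH, ← R.card_eq_index_normalizer]; exact hn4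
  refine nonempty_mulEquiv_perm H hH4 hG ?_
  have hHn := Subgroup.normalCore_normal H
  have hK6 : Nat.card H.normalCore ∣ 6 := by
    have h := Subgroup.card_mul_index H
    rw [hH4, hG] at h
    rw [show (6 : ℕ) = Nat.card H by omega]
    exact Subgroup.card_dvd_of_le H.normalCore_le
  have hKE : H.normalCore ⊓ E = ⊥ := by
    rw [eq_bot_iff_forall]
    intro b hb
    by_contra hb1
    obtain ⟨h, hh⟩ := hconj b hb.2 hb1
    have hzK : D.t ∈ H.normalCore := by
      have := hHn.conj_mem b hb.1 h⁻¹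
      rwa [← hh, show h⁻¹ * (h * D.t * h⁻¹) * h⁻¹⁻¹ = D.t by group] at this
    have hEK : E ≤ H.normalCore := fun c hc => by
      rcases eq_or_ne c 1 with rfl | hc1
      · exact one_mem _
      obtain ⟨k, hk⟩ := hconj c hc hc1
      rw [← hk]
      exact hHn.conj_mem D.t hzK k
    have := (Subgroup.card_dvd_of_le hEK).trans hK6
    rw [hE] at this
    omega
  rw [eq_bot_iff, ← hKE]
  refine le_inf le_rfl fun x hx => hcent fun b hb => ?_
  exact (Subgroup.commute_of_normal_of_disjoint _ _ hHn hEn (disjoint_iff.mpr hKE) x b hx hb).symm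

theorem five_case (M : Subgroup G) [M.Normal] (hidx : M.index = 2) {E : Subgroup G} (hEM : E ≤ M)
    (T : Sylow 2 M) (hT : (T : Subgroup M) = E.subgroupOf M) (hE : Nat.card E = 4)
    (hN : Nat.card (normalizer (E : Set G)) = 24) (hnc : ¬ IsCyclic (T : Subgroup M))
    (hHyp : Involution.ElemCentralizer.Hyp M) (hTn : ¬ (T : Subgroup M).Normal)
    (hg : ∃ g : G, g * D.t * g⁻¹ ≠ D.t) : Nonempty (G ≃* Equiv.Perm (Fin 5)) := by
  obtain ⟨v, hvH, hv⟩ := Involution.StrongEmb.exists_involution_not_mem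
    (Involution.ElemCentralizer.isStronglyEmbedded T hnc hHyp hTn)
  set H₀ := normalizer ((T : Subgroup M) : Set M) with hH₀
  have hX : Nat.card (M ⧸ H₀) = 5 := by
    rw [Involution.ElemCentralizer.card_quotient T hnc hHyp hTn hv hvH, hT,
      Nat.card_congr (subgroupOfEquivOfLe hEM).toEquiv, hE]
  have hfix := fun (m : M) (x₁ x₂ x₃ : M ⧸ H₀) (h12 : x₁ ≠ x₂) (h13 : x₁ ≠ x₃) (h23 : x₂ ≠ x₃) =>
    Involution.ElemCentralizer.eq_one_of_fixes_three T hnc hHyp hTn (g := m) h12 h13 h23
  have hM60 : Nat.card M = 60 := card_eq_sixty hX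
    (fun _ _ _ _ _ _ h12 h13 h23 k12 k13 k23 =>
      Involution.ElemCentralizer.exists_smul_three T hnc hHyp hTn h12 h13 h23 k12 k13 k23) hfix
  have hG : Nat.card G = 120 := by rw [← Subgroup.card_mul_index M, hM60, hidx]
  have hNidx : (normalizer (E : Set G)).index = 5 := by
    have h := Subgroup.card_mul_index (normalizer (E : Set G))
    rw [hN, hG] at h
    omega
  refine nonempty_mulEquiv_perm _ hNidx hG ?_
  set K := (normalizer (E : Set G)).normalCore with hK
  have hKn : K.Normal := Subgroup.normalCore_normal _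
  have hKM : ∀ k ∈ K, k ∈ M → k = 1 := by
    intro k hk hkM
    have hall : ∀ y : M ⧸ H₀, (⟨k, hkM⟩ : M) • y = y := by
      intro y
      induction y using QuotientGroup.induction_on with
      | H m =>
        rw [MulAction.Quotient.smul_coe, smul_eq_mul, eq_comm, QuotientGroup.eq, hH₀, hT]
        have hkN : (m : G)⁻¹ * k * (m : G) ∈ normalizer (E : Set G) := Subgroup.normalCore_le _ (by
          have := hKn.conj_mem k hk (m : G)⁻¹
          rwa [inv_inv] at this)
        refine mem_normalizer_iff.mpr fun b => ?_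
        have := mem_normalizer_iff.mp hkN (b : G)
        simpa [mem_subgroupOf, mul_assoc] using this
    have := Fintype.ofFinite (M ⧸ H₀)
    obtain ⟨x₁, x₂, x₃, h12, h13, h23⟩ := Fintype.two_lt_card_iff.mp
      (show 2 < Fintype.card (M ⧸ H₀) by rw [← Nat.card_eq_fintype_card, hX]; norm_num)
    exact congrArg Subtype.val (hfix _ x₁ x₂ x₃ h12 h13 h23 (hall _) (hall _) (hall _))
  rw [eq_bot_iff_forall]
  intro k hk
  have hk2 : k * k = 1 := hKM _ (K.mul_mem hk hk) (Subgroup.mul_self_mem_of_index_two hidx k)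
  refine central_trivial D hg (fun h => ?_) hk2
  by_cases hkM : k ∈ M
  · rw [hKM k hk hkM, mul_one, one_mul]
  have hk' : h * k * h⁻¹ ∈ K := hKn.conj_mem k hk h
  have hnot : h * k * h⁻¹ ∉ M := fun hm => hkM (by
    have := Subgroup.Normal.conj_mem (inferInstance : M.Normal) _ hm h⁻¹
    rwa [show h⁻¹ * (h * k * h⁻¹) * h⁻¹⁻¹ = k by group] at this)
  have := hKM _ (K.mul_mem hk' hk) ((Subgroup.mul_mem_iff_of_index_two hidx).mpr (iff_of_false hnot hkM))
  rw [mul_eq_one_iff_eq_inv, inv_eq_of_mul_eq_one_right hk2, mul_inv_eq_iff_eq_mul] at this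
  exact this

/-- The index two case. -/
theorem index_two_case (hni : ¬ Cfsg.IsIsolatedInvolution D.t) (M : Subgroup G) [M.Normal]
    (hidx : M.index = 2) :
    Nonempty (G ≃* Equiv.Perm (Fin 4)) ∨ Nonempty (G ≃* Equiv.Perm (Fin 5)) := by
  have := Fact.mk Nat.prime_two
  obtain ⟨E, hEdef, hcard, hcomm, hsq, hcent, hconj, g, hgN, hgne⟩ := klein D hni M hidx
  have hEM : E ≤ M := hEdef ▸ inf_le_right
  have hzC : D.t ∈ D.C := mem_centralizer_singleton_iff.mpr rfl
  have hzE : D.t ∈ E := hEdef ▸ ⟨hzC, t_mem D M hidx⟩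
  have hCN : D.C ≤ normalizer (E : Set G) := by
    rw [hEdef]
    exact le_trans (le_inf le_normalizer (by rw [normalizer_eq_top]; exact le_top)) inf_normalizer_le_normalizer_inf
  have hN : Nat.card (normalizer (E : Set G)) = 24 := by
    have h24 := card_normalizer_dvd hcard hcent
    obtain ⟨k, hk⟩ := (D.card_C ▸ Subgroup.card_dvd_of_le hCN : 8 ∣ Nat.card (normalizer (E : Set G)))
    rw [hk] at h24
    have hk3 : k ∣ 3 := Nat.dvd_of_mul_dvd_mul_left (k := 8) (by norm_num) h24
    rcases (Nat.dvd_prime Nat.prime_three).mp hk3 with rfl | rfl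
    · exfalso
      have hNC : D.C = normalizer (E : Set G) := Subgroup.eq_of_le_of_card_ge hCN (by rw [hk, D.card_C])
      exact hgne (mul_inv_eq_iff_eq_mul.mpr (mem_centralizer_singleton_iff.mp (hNC ▸ hgN : g ∈ D.C)))
    · exact hk
  have hEp : IsPGroup 2 E := IsPGroup.of_card (n := 2) (by rw [hcard]; norm_num)
  have hEidx : ¬ 2 ∣ (E.subgroupOf M).index := by
    intro h
    obtain ⟨P, hP⟩ := D.C_le_sylow
    refine P.not_dvd_index ?_
    rw [hP]
    have h1 : (E.subgroupOf M).index * M.index = E.index := Subgroup.relIndex_mul_index hEM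
    have h2 := Subgroup.card_mul_index E
    have h3 := Subgroup.card_mul_index D.C
    rw [hcard, ← h1, hidx] at h2
    rw [D.card_C] at h3
    rwa [show D.C.index = (E.subgroupOf M).index by omega]
  let T : Sylow 2 M := (hEp.comap_subtype (K := M)).toSylow hEidx
  have hT : (T : Subgroup M) = E.subgroupOf M := rfl
  have hMconj : ∀ t : M, orderOf t = 2 → ∃ h : G, h * D.t * h⁻¹ = (t : G) := by
    intro t ht
    obtain ⟨Q, hQ⟩ := (IsPGroup.of_card (n := 1) (by rw [Nat.card_zpowers, ht, pow_one]) :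
      IsPGroup 2 (zpowers t)).exists_le_sylow
    obtain ⟨m, hm⟩ := MulAction.exists_smul_eq M T Q
    have htQ : t ∈ ((m • T : Sylow 2 M) : Subgroup M) := hm ▸ hQ (mem_zpowers t)
    rw [Sylow.coe_subgroup_smul, Subgroup.mem_pointwise_smul_iff_inv_smul_mem] at htQ
    have hs : (m : G)⁻¹ * (t : G) * (m : G) ∈ E := by
      have := mem_subgroupOf.mp (hT ▸ htQ)
      simpa using this
    have hs1 : (m : G)⁻¹ * (t : G) * (m : G) ≠ 1 := fun h => by
      have e : (t : G) = 1 := by
        calc (t : G) = (m : G) * ((m : G)⁻¹ * (t : G) * (m : G)) * (m : G)⁻¹ := by group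
          _ = 1 := by rw [h]; group
      rw [show t = 1 from Subtype.ext e, orderOf_one] at ht
      exact absurd ht (by norm_num)
    obtain ⟨h, hh⟩ := hconj _ hs hs1
    exact ⟨(m : G) * h, by
      calc (m : G) * h * D.t * ((m : G) * h)⁻¹ = (m : G) * (h * D.t * h⁻¹) * (m : G)⁻¹ := by group
        _ = t := by rw [hh]; group⟩
  have hHyp : Involution.ElemCentralizer.Hyp M := by
    intro t ht
    obtain ⟨h, hh⟩ := hMconj t ht
    have key : ∀ c ∈ centralizer ({t} : Set M), h⁻¹ * (c : G) * h ∈ E := by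
      intro c hc
      rw [hEdef]
      refine ⟨mem_centralizer_singleton_iff.mpr ?_, ?_⟩
      · have h1 : (c : G) * (h * D.t * h⁻¹) = h * D.t * h⁻¹ * (c : G) := by
          rw [hh]; exact congrArg Subtype.val (mem_centralizer_singleton_iff.mp hc)
        calc h⁻¹ * (c : G) * h * D.t = h⁻¹ * ((c : G) * (h * D.t * h⁻¹)) * h := by group
          _ = h⁻¹ * (h * D.t * h⁻¹ * (c : G)) * h := by rw [h1]
          _ = D.t * (h⁻¹ * (c : G) * h) := by group
      · have := Subgroup.Normal.conj_mem (inferInstance : M.Normal) _ c.2 h⁻¹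
        rwa [inv_inv] at this
    refine ⟨⟨⟨fun a b => ?_⟩⟩, fun c hc => ?_⟩
    · apply Subtype.ext; apply Subtype.ext
      show ((a : M) : G) * ((b : M) : G) = ((b : M) : G) * ((a : M) : G)
      have h2 := hcomm _ (key a a.2) _ (key b b.2)
      calc ((a : M) : G) * ((b : M) : G)
          = h * ((h⁻¹ * ((a : M) : G) * h) * (h⁻¹ * ((b : M) : G) * h)) * h⁻¹ := by group
        _ = h * ((h⁻¹ * ((b : M) : G) * h) * (h⁻¹ * ((a : M) : G) * h)) * h⁻¹ := by rw [h2]
        _ = _ := by group
    · apply Subtype.ext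
      show (c : G) ^ 2 = 1
      have h2 := hsq _ (key c hc)
      calc (c : G) ^ 2 = h * ((h⁻¹ * (c : G) * h) * (h⁻¹ * (c : G) * h)) * h⁻¹ := by rw [pow_two]; group
        _ = 1 := by rw [h2]; group
  have hnc : ¬ IsCyclic (T : Subgroup M) := by
    intro hc
    obtain ⟨x, hx⟩ := hc.exists_generator
    have h4 := orderOf_eq_card_of_forall_mem_zpowers hx
    have hcT : Nat.card (T : Subgroup M) = 4 :=
      (Nat.card_congr (subgroupOfEquivOfLe hEM).toEquiv).trans hcard
    rw [hcT] at h4
    have hx2 : orderOf x ∣ 2 := orderOf_dvd_of_pow_eq_one (Subtype.ext (Subtype.ext (by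
      rw [pow_two]; exact hsq _ (mem_subgroupOf.mp (hT ▸ x.2)))))
    exact absurd hx2 (by rw [h4]; norm_num)
  by_cases hTn : (T : Subgroup M).Normal
  · left
    have hEnorm : E.Normal := by
      refine ⟨fun b hb h => ?_⟩
      have hbM : h * b * h⁻¹ ∈ M := Subgroup.Normal.conj_mem inferInstance b (hEM hb) h
      rcases eq_or_ne (⟨_, hbM⟩ : M) 1 with e | e
      · have e' : h * b * h⁻¹ = 1 := congrArg Subtype.val e
        rw [e']; exact one_mem E
      have hord : orderOf (⟨_, hbM⟩ : M) = 2 := orderOf_eq_prime (Subtype.ext (by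
        show (h * b * h⁻¹) ^ 2 = 1
        rw [conj_pow, pow_two, hsq b hb]; group)) e
      obtain ⟨Q, hQ⟩ := (IsPGroup.of_card (n := 1) (by rw [Nat.card_zpowers, hord, pow_one]) :
        IsPGroup 2 (zpowers (⟨_, hbM⟩ : M))).exists_le_sylow
      have : Unique (Sylow 2 M) := Sylow.unique_of_normal T hTn
      rw [Subsingleton.elim Q T] at hQ
      exact mem_subgroupOf.mp (hT ▸ hQ (mem_zpowers _))
    refine four_case D hcard hcent hzE hconj ?_
    rw [← hN, normalizer_eq_top_iff.mpr hEnorm, Subgroup.card_top]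
  · exact Or.inr (five_case D M hidx hEM T hT hcard hN hnc hHyp hTn ⟨g, hgne⟩)

end Cfsg.Agent.DihedralCentTools
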