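import Cfsg.Agent.Lib.BSW.DihedralEight
import Cfsg.Agent.Lib.DihedralCent.Tools
import Cfsg.Agent.Lib.ZStar.Main
import Cfsg.Agent.Lib.PGroup.Thompson

/-!
An involution with dihedral centralizer of order 8: the isolated case, and the four-group `C(t) ∩ M`
for a normal subgroup `M` of index 2 in the other case.
-/

set_option autoImplicit false

namespace Cfsg.Agent.DihedralCentTools

open Subgroup

/-- An isolated involution gives `G = C(z) O(G)`. -/
theorem sup_oddCore_of_isolated {G : Type*} [Group G] [Finite G] {z : G}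
    (hz : Cfsg.IsIsolatedInvolution z) :
    centralizer ({z} : Set G) ⊔ Cfsg.oddCore G = ⊤ := by
  refine eq_top_iff.mpr fun g _ => ?_
  set o := g * z * g⁻¹ * z⁻¹ with ho
  have hoO : o ∈ Cfsg.oddCore G := ZStar.inZStar hz g
  have hzz : z * z = 1 := by have := pow_orderOf_eq_one z; rwa [hz.1, pow_two] at this
  have e : g * z * g⁻¹ = o * z := by rw [ho]; group
  have hinv : z * o * z⁻¹ = o⁻¹ := by
    have h : (o * z) * (o * z) = 1 := by
      rw [← e, show g * z * g⁻¹ * (g * z * g⁻¹) = g * (z * z) * g⁻¹ by group, hzz]; group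
    rw [inv_eq_of_mul_eq_one_right hzz]
    exact eq_inv_of_mul_eq_one_right (by rw [← h]; group)
  have hodd : Nat.Coprime 2 (orderOf o) := Nat.coprime_two_left.mpr
    (Odd.of_dvd_nat PCore.odd_card_oddCore (Subgroup.orderOf_dvd_natCard _ hoO))
  obtain ⟨m, hm⟩ := exists_pow_eq_self_of_coprime (x := o) hodd
  set k := o ^ m with hk
  have hk2 : k * k = o := by rw [hk, ← pow_add, ← two_mul, pow_mul, hm]
  have hzk : z * k * z⁻¹ = k⁻¹ := by rw [hk, ← conj_pow, hinv, inv_pow]
  have hkz : k * z * k⁻¹ = o * z := by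
    calc k * z * k⁻¹ = k * (z * k * z⁻¹)⁻¹ * z := by group
      _ = o * z := by rw [hzk, inv_inv, hk2]
  have hc : k⁻¹ * g ∈ centralizer ({z} : Set G) := mem_centralizer_singleton_iff.mpr (by
    refine mul_inv_eq_iff_eq_mul.mp ?_
    calc k⁻¹ * g * z * (k⁻¹ * g)⁻¹ = k⁻¹ * (g * z * g⁻¹) * k := by group
      _ = z := by rw [e, ← hkz]; group)
  rw [← mul_inv_cancel_left k g]
  exact mul_mem (mem_sup_right (pow_mem hoO m)) (mem_sup_left hc)

section Klein

variable {G : Type*} [Group G] [Finite G] (D : BSW.DihedralCent G)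
variable (hni : ¬ Cfsg.IsIsolatedInvolution D.t) (M : Subgroup G) [M.Normal] (hidx : M.index = 2)

include hidx in
theorem t_mem : D.t ∈ M := by
  rw [← D.el_r_two, show (DihedralGroup.r 2 : DihedralGroup 4) = .r 1 * .r 1 from rfl, D.el_mul]
  exact Subgroup.mul_self_mem_of_index_two hidx _

include hidx in
theorem card_inf : Nat.card ↥(D.C ⊓ M) = 4 := by
  have h1 : (M.subgroupOf D.C).index = 2 := by
    have h : M.relIndex D.C ∣ 2 := hidx ▸ Subgroup.relIndex_dvd_index_of_normal M D.C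
    rcases (Nat.dvd_prime Nat.prime_two).mp h with h' | h'
    · exfalso
      obtain ⟨P, hP⟩ := D.C_le_sylow
      have hle : D.C ≤ M := Subgroup.relIndex_eq_one.mp h'
      have := Fact.mk Nat.prime_two
      refine P.not_dvd_index ?_
      rw [hP, ← hidx]
      exact Subgroup.index_dvd_of_le hle
    · exact h'
  have h2 := Subgroup.card_mul_index (M.subgroupOf D.C)
  rw [h1, D.card_C] at h2
  have h3 : Nat.card ↥(M.subgroupOf D.C) = Nat.card ↥(D.C ⊓ M) := by
    rw [← Subgroup.card_map_of_injective D.C.subtype_injective, subgroupOf_map_subtype, inf_comm]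
  omega

include hni hidx in
theorem klein : ∃ E : Subgroup G, E = D.C ⊓ M ∧ Nat.card E = 4 ∧
    (∀ a ∈ E, ∀ b ∈ E, a * b = b * a) ∧ (∀ a ∈ E, a * a = 1) ∧
    centralizer (E : Set G) ≤ E ∧
    (∀ a ∈ E, a ≠ 1 → ∃ h : G, h * D.t * h⁻¹ = a) ∧
    (∃ g ∈ normalizer (E : Set G), g * D.t * g⁻¹ ≠ D.t) := by
  classical
  set z := D.t
  have hz2 : z * z = 1 := BSW.sq_of_order D.ht
  have hz1 : z ≠ 1 := fun h => by have := D.ht; rw [show D.t = z from rfl, h, orderOf_one] at this; omega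
  obtain ⟨g, hgc, hgne⟩ : ∃ g : G, Commute z (g * z * g⁻¹) ∧ g * z * g⁻¹ ≠ z := by
    by_contra h
    push Not at h
    exact hni ⟨D.ht, h⟩
  set u := g * z * g⁻¹ with hu
  have hzM : z ∈ M := t_mem D M hidx
  have huM : u ∈ M := Subgroup.Normal.conj_mem inferInstance z hzM g
  have huC : u ∈ D.C := mem_centralizer_singleton_iff.mpr hgc.eq.symm
  have hu2 : u * u = 1 := by
    rw [hu, show g * z * g⁻¹ * (g * z * g⁻¹) = g * (z * z) * g⁻¹ by group, hz2]; group
  have hu1 : u ≠ 1 := fun h => hz1 (conj_eq_one_iff.mp h)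
  obtain ⟨a, hau⟩ := D.exists_el huC
  obtain ⟨hcent, c, hca⟩ := d8_facts a
    (D.el_inj (by rw [D.el_mul, hau, hu2, D.el_one]))
    (fun h => hu1 (by rw [← hau, h, D.el_one]))
    (fun h => hgne (by rw [← hau, h, D.el_r_two]))
  set E := D.C ⊓ M with hE
  have hcard := card_inf D M hidx
  have hzC : z ∈ D.C := mem_centralizer_singleton_iff.mpr rfl
  have hzu1 : z * u ≠ 1 := fun h => hgne (mul_left_cancel (h.trans hz2.symm))
  have hmem : ∀ b ∈ E, b = 1 ∨ b = z ∨ b = u ∨ b = z * u := fun b hb =>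
    mem_of_card_four hcard ⟨hzC, hzM⟩ ⟨huC, huM⟩ hz1 hu1 hgne hzu1 hb
  have hsq : ∀ a ∈ E, a * a = 1 := by
    intro a ha
    rcases hmem a ha with rfl | rfl | rfl | rfl
    · exact one_mul 1
    · exact hz2
    · exact hu2
    · rw [hgc.symm.mul_mul_mul_comm, hz2, hu2, one_mul]
  have hcomm := comm_of_exponent_two hsq
  refine ⟨E, rfl, hcard, hcomm, hsq, fun x hx => ?_, fun b hb hb1 => ?_, g, ?_, hgne⟩
  · have hxC : x ∈ D.C := mem_centralizer_singleton_iff.mpr (hx z ⟨hzC, hzM⟩).symm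
    obtain ⟨b, rfl⟩ := D.exists_el hxC
    have hbu := hx u ⟨huC, huM⟩
    rw [← hau, ← D.el_mul, ← D.el_mul] at hbu
    rcases hcent b (D.el_inj hbu).symm with rfl | rfl | rfl | rfl
    · rw [D.el_one]; exact one_mem E
    · rw [D.el_r_two]; exact ⟨hzC, hzM⟩
    · rw [hau]; exact ⟨huC, huM⟩
    · rw [D.el_mul, D.el_r_two, hau]; exact E.mul_mem ⟨hzC, hzM⟩ ⟨huC, huM⟩
  · rcases hmem b hb with rfl | rfl | rfl | rfl
    · exact absurd rfl hb1
    · exact ⟨1, by group⟩
    · exact ⟨g, rfl⟩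
    · refine ⟨D.el c * g, ?_⟩
      calc D.el c * g * z * (D.el c * g)⁻¹ = D.el c * (g * z * g⁻¹) * (D.el c)⁻¹ := by group
        _ = D.el (c * a * c⁻¹) := by rw [D.el_mul, D.el_mul, D.el_inv, hau]
        _ = z * u := by rw [hca, D.el_mul, D.el_r_two, hau]
  · have hle : E ≤ E.map (MulAut.conj g).toMonoidHom := by
      intro b hb
      refine ⟨g⁻¹ * b * g, ⟨mem_centralizer_singleton_iff.mpr ?_, ?_⟩, by simp [mul_assoc]⟩
      · have h1 : b * (g * z * g⁻¹) = g * z * g⁻¹ * b := hcomm b hb u ⟨huC, huM⟩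
        calc g⁻¹ * b * g * z = g⁻¹ * (b * (g * z * g⁻¹)) * g := by group
          _ = g⁻¹ * (g * z * g⁻¹ * b) * g := by rw [h1]
          _ = z * (g⁻¹ * b * g) := by group
      · have := Subgroup.Normal.conj_mem (inferInstance : M.Normal) b hb.2 g⁻¹
        rwa [inv_inv] at this
    exact PGroup.mem_normalizer_of_map_conj_eq
      (eq_of_le_of_card_ge hle (card_map_of_injective (MulAut.conj g).injective).le).symm

end Klein

end Cfsg.Agent.DihedralCentTools
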